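import Groth.Agent.SGA3t2b.K218.Ad.TorusImage
import Groth.Agent.RedSub.K194.AdjCentre
import Groth.Agent.S5475
import Groth.Agent.RootD.K221.PSys
import Groth.Agent.Sga3B.TorusAlgClosed
import Mathlib.Algebra.Module.Submodule.Union
import Mathlib.Algebra.CharP.Defs

/-!
# Adjoint split groups: functionals without vanishing roots
-/

set_option autoImplicit false
universe u v

open CategoryTheory MonoidalCategory CartesianMonoidalCategory MonObj GrpObj AlgebraicGeometry Limits

namespace K218.AdjSplit

open Groth.Agent.Sga3B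

section centre

variable {S : Scheme.{u}} {G : Over S} [GrpObj G] (D : Red.SplitRed G)

include D in
/-- The centre has no points when it is trivial as a group scheme. -/
theorem triv_of_centre
    (hadj : ∀ (Z : Over S) [GrpObj Z] (j : Z ⟶ G), Red.IsCentre j → Red.IsTrivialGrp Z) :
    K194.AdjCentre.Triv G := by
  have hc := K194.AdjCentre.isCent D
  have h1 : Red.IsCentre (AdCentre.zc D) := by
    refine ⟨inferInstance, inferInstance, fun X g => ⟨?_, ?_⟩⟩
    · rintro ⟨z, rfl⟩ X' x h
      rw [Category.comp_id]
      exact (hc X _).1 ⟨z, rfl⟩ X' x h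
    · intro h
      obtain ⟨t, ht⟩ := (hc X g).2 fun X' x y => by simpa using h X' x y
      exact ⟨t, ht.symm⟩
  have h2 : IsIso (Red.DS S (D.M ⧸ AdCentre.Qr D)).hom := hadj _ _ h1
  intro X g hg
  obtain ⟨t, rfl⟩ := (hc X g).2 hg
  have h3 : t = 1 := by
    apply Over.OverMorphism.ext
    rw [← cancel_mono (Red.DS S (D.M ⧸ AdCentre.Qr D)).hom, Over.w, Over.w]
  rw [h3, MonObj.one_comp]

/-- The roots of an adjoint split group span the characters. -/
theorem span_of_centre [Nonempty S]
    (hadj : ∀ (Z : Over S) [GrpObj Z] (j : Z ⟶ G), Red.IsCentre j → Red.IsTrivialGrp Z) :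
    Submodule.span ℤ (Set.range D.P.root) = ⊤ :=
  K194.AdjCentre.span_of_triv D (triv_of_centre D hadj)

end centre

section functional

variable {M : Type} [AddCommGroup M] [Module.Free ℤ M] [Module.Finite ℤ M]

/-- A primitive element of a lattice is nonzero modulo `p`. -/
theorem exists_hom_ne_zero {k : Type u} [Field k] (r : M)
    (hr : ∀ (m : M) (n : ℤ), n • m = r → n = 1 ∨ n = -1) : ∃ h : M →+ k, h r ≠ 0 := by
  obtain ⟨p, hp⟩ := CharP.exists k
  set b := Module.Free.chooseBasis ℤ M
  by_contra H
  push Not at H
  have h1 : ∀ i, (p : ℤ) ∣ b.repr r i := by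
    intro i
    have h2 := H (((Int.castAddHom k).comp (b.coord i : M →+ ℤ)))
    have h3 : ((b.repr r i : ℤ) : k) = 0 := h2
    exact (CharP.intCast_eq_zero_iff k p _).1 h3
  choose c hc using h1
  have h4 : (p : ℤ) • (∑ i, c i • b i) = r := by
    rw [Finset.smul_sum]
    conv_rhs => rw [← b.sum_repr r]
    refine Finset.sum_congr rfl fun i _ => ?_
    rw [smul_smul, ← hc]
  rcases hr _ _ h4 with h5 | h5
  · have h6 : p = 1 := by exact_mod_cast h5
    subst h6
    exact CharP.char_ne_one k 1 rfl
  · omega

/-- In an adjoint reduced root datum there is a functional over any infinite field without vanishing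
roots. -/
theorem exists_functional {I N : Type} [Finite I] [AddCommGroup N] (P : RootPairing I ℤ M N)
    [P.IsReduced] (hspan : Submodule.span ℤ (Set.range P.root) = ⊤) (k : Type u) [Field k] [Infinite k] :
    ∃ h : M →+ k, ∀ a, h (P.root a) ≠ 0 := by
  let f : I → Module.Dual k (M →+ k) := fun a =>
    { toFun := fun h => h (P.root a)
      map_add' := fun _ _ => rfl
      map_smul' := fun _ _ => rfl }
  exact Module.Dual.exists_forall_ne_zero_of_forall_exists f fun a =>
    exists_hom_ne_zero (P.root a) fun m n h =>
      Groth.Agent.S5475.result P hspan a (K221.PSys.isIndiv_of_isReduced P a) m n h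

end functional

end K218.AdjSplit
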