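import Groth.Agent.SGA3t2b.K218.Ad.DatumLie
import Mathlib.Algebra.Lie.CartanSubalgebra
import Mathlib.Algebra.Lie.Rank

/-!
# The Lie algebra of a maximal torus, abstractly

`E : PMod k A L` (points of `Spec A`, Lie algebra `L`) and `D` a good datum (split torus and root
homomorphisms) over an infinite field, together with an `h₀ : D.M →+ k` on which no root vanishes.
Then the Lie algebra `torsSub` of the torus is a Cartan subalgebra of `L`, of dimension the nilpotent
rank of `L`, and an element `tors h` is regular if and only if no root vanishes on `h`.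
-/

set_option autoImplicit false
universe u v

open Polynomial

namespace K218.LieP

open Groth.Agent.Sga3B Cell K929.LieDict K929.LieCell

namespace PMod

variable {k : Type u} [Field k] {A : Type u} [CommRing A] [Algebra k A] [PtGrp k A]
  {L : Type v} [LieRing L] [LieAlgebra k L] (E : PMod k A L) (D : Datum k A)

/-- the Lie algebra of the torus as a subalgebra -/
noncomputable def torsSub : LieSubalgebra k L :=
  { LinearMap.range (E.tors D) with
    lie_mem' := by
      rintro _ _ ⟨h, rfl⟩ ⟨h', rfl⟩
      rw [E.lie_tors_tors]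
      exact Submodule.zero_mem _ }

lemma mem_torsSub {x : L} : x ∈ E.torsSub D ↔ ∃ h, E.tors D h = x := Iff.rfl

lemma finrank_torsSub : Module.finrank k (E.torsSub D) = Module.finrank k (D.M →+ k) :=
  LinearMap.finrank_range_of_inj (E.tors_injective D)

/-- powers of `ad (tors h)` -/
lemma ad_tors_pow (h : D.M →+ k) (ξ : D.idx → k) (h' : D.M →+ k) (n : ℕ) :
    ((LieAlgebra.ad k L (E.tors D h)) ^ (n + 1)) (∑ a, ξ a • E.rootv D a + E.tors D h') =
      ∑ a, (h (D.root a) ^ (n + 1) * ξ a) • E.rootv D a := by
  induction n with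
  | zero =>
    rw [zero_add, pow_one, LieAlgebra.ad_apply, lie_tors_sum]
    simp only [pow_one]
  | succ n ih =>
    rw [pow_succ', Module.End.mul_apply, ih, LieAlgebra.ad_apply]
    have := E.lie_tors_sum D h (fun a => h (D.root a) ^ (n + 1) * ξ a) 0
    rw [map_zero, add_zero] at this
    rw [this]
    refine Finset.sum_congr rfl fun a _ => ?_
    congr 1
    ring

/-- the generalized kernel of `ad (tors h)` when no root vanishes on `h` -/
theorem maxGenEigenspace_tors (hG : D.Good) (h : D.M →+ k) (hh : ∀ a, h (D.root a) ≠ 0) :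
    (LieAlgebra.ad k L (E.tors D h)).maxGenEigenspace 0 = LinearMap.range (E.tors D) := by
  ext x
  rw [Module.End.mem_maxGenEigenspace]
  obtain ⟨ξ, h', rfl⟩ := E.exists_decomp D hG x
  constructor
  · rintro ⟨n, hn⟩
    have h1 : ((LieAlgebra.ad k L (E.tors D h)) ^ (n + 1)) (∑ a, ξ a • E.rootv D a + E.tors D h')
        = 0 := by
      rw [zero_smul, sub_zero] at hn
      rw [pow_succ', Module.End.mul_apply, hn, map_zero]
    rw [E.ad_tors_pow] at h1
    have h2 := E.decomp_unique D (ξ := fun a => h (D.root a) ^ (n + 1) * ξ a) (ξ' := 0) (h := 0)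
      (h' := 0) (by rw [h1]; simp)
    have h3 : ξ = 0 := by
      funext a
      have := congrFun h2.1 a
      simpa [pow_ne_zero _ (hh a)] using this
    subst h3
    exact ⟨h', by simp⟩
  · rintro ⟨h'', hh''⟩
    have h2 := E.decomp_unique D (ξ := ξ) (ξ' := 0) (h := h') (h' := h'') (by rw [← hh'']; simp)
    obtain ⟨h3, -⟩ := h2
    subst h3
    refine ⟨1, ?_⟩
    rw [zero_smul, sub_zero]
    have := E.ad_tors_pow D h 0 h' 0
    rw [zero_add] at this
    rw [this]
    simp

/-- the torus always lies in the generalized kernel -/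
theorem le_maxGenEigenspace_tors (h : D.M →+ k) :
    LinearMap.range (E.tors D) ≤ (LieAlgebra.ad k L (E.tors D h)).maxGenEigenspace 0 := by
  rintro _ ⟨h', rfl⟩
  rw [Module.End.mem_maxGenEigenspace]
  refine ⟨1, ?_⟩
  rw [zero_smul, sub_zero, pow_one, LieAlgebra.ad_apply, E.lie_tors_tors]

variable [FiniteDimensional k L]

open LieAlgebra in
theorem natTrailingDegree_tors (hG : D.Good) (h : D.M →+ k) (hh : ∀ a, h (D.root a) ≠ 0) :
    (ad k L (E.tors D h)).charpoly.natTrailingDegree = Module.finrank k (D.M →+ k) := by
  rw [← LinearMap.finrank_maxGenEigenspace_zero_eq, E.maxGenEigenspace_tors D hG h hh,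
    LinearMap.finrank_range_of_inj (E.tors_injective D)]

open LieAlgebra in
theorem le_natTrailingDegree_tors (h : D.M →+ k) :
    Module.finrank k (D.M →+ k) ≤ (ad k L (E.tors D h)).charpoly.natTrailingDegree := by
  rw [← LinearMap.finrank_maxGenEigenspace_zero_eq,
    ← LinearMap.finrank_range_of_inj (E.tors_injective D)]
  exact Submodule.finrank_mono (E.le_maxGenEigenspace_tors D h)

include E in
/-- the nilpotent rank is the dimension of the torus -/
theorem rank_eq [Infinite k] (hG : D.Good) (h : D.M →+ k) (hh : ∀ a, h (D.root a) ≠ 0) :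
    LieAlgebra.rank k L = Module.finrank k (D.M →+ k) := by
  classical
  apply le_antisymm
  · rw [← E.natTrailingDegree_tors D hG h hh]
    exact LieAlgebra.rank_le_natTrailingDegree_charpoly_ad k (E.tors D h)
  · set b := Module.Free.chooseBasis k L
    rw [LieAlgebra.rank_eq_natTrailingDegree k L b]
    apply Polynomial.le_natTrailingDegree
    · exact LinearMap.polyCharpoly_ne_zero _ _
    · intro i hi
      refine E.eq_zero_of_torus D hG b h hh _ fun g h' => ?_
      rw [LinearMap.polyCharpoly_coeff_eval]
      change (LieAlgebra.ad k L (E.Ad g (E.tors D h'))).charpoly.coeff i = 0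
      rw [E.charpoly_ad_Ad]
      exact Polynomial.coeff_eq_zero_of_lt_natTrailingDegree
        (lt_of_lt_of_le hi (E.le_natTrailingDegree_tors D h'))

/-- `tors h` is regular when no root vanishes on `h` -/
theorem isRegular_tors [Infinite k] (hG : D.Good) (h : D.M →+ k) (hh : ∀ a, h (D.root a) ≠ 0) :
    LieAlgebra.IsRegular k (E.tors D h) := by
  rw [LieAlgebra.isRegular_iff_natTrailingDegree_charpoly_eq_rank, E.natTrailingDegree_tors D hG h hh,
    E.rank_eq D hG h hh]

omit [FiniteDimensional k L] in
/-- the Lie algebra of the torus is a Cartan subalgebra -/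
theorem isCartan_torsSub (hG : D.Good) (h : D.M →+ k) (hh : ∀ a, h (D.root a) ≠ 0) :
    (E.torsSub D).IsCartanSubalgebra where
  nilpotent := by
    have : IsLieAbelian (E.torsSub D) := by
      refine ⟨fun x y => ?_⟩
      obtain ⟨x, h₁, rfl⟩ := x
      obtain ⟨y, h₂, rfl⟩ := y
      apply Subtype.ext
      exact E.lie_tors_tors D h₁ h₂
    infer_instance
  self_normalizing := by
    apply le_antisymm
    · intro x hx
      rw [LieSubalgebra.mem_normalizer_iff] at hx
      obtain ⟨ξ, h', rfl⟩ := E.exists_decomp D hG x
      obtain ⟨h'', hh''⟩ := (LieSubalgebra.mem_normalizer_iff _ _).mp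
        ((LieSubalgebra.mem_normalizer_iff _ _).mpr hx) (E.tors D h) ⟨h, rfl⟩
      rw [← lie_skew, E.lie_tors_sum] at hh''
      have h2 := E.decomp_unique D (ξ := fun a => -(h (D.root a) * ξ a)) (ξ' := 0) (h := 0)
        (h' := h'') (by
          rw [map_zero, add_zero]
          simp only [neg_smul, Finset.sum_neg_distrib, Pi.zero_apply, zero_smul,
            Finset.sum_const_zero, zero_add]
          exact hh''.symm)
      have h3 : ξ = 0 := by
        funext a
        have := congrFun h2.1 a
        simpa [hh a] using this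
      subst h3
      exact ⟨h', by simp⟩
    · exact LieSubalgebra.le_normalizer _

end PMod

end K218.LieP
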