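import Mathlib.RingTheory.MvPolynomial.Homogeneous
import Mathlib.Algebra.MvPolynomial.Funext
import Mathlib.Algebra.Polynomial.AlgebraMap

/-!
# Polynomials vanishing along enough curves through a point

`eq_zero_of_curves`: over an infinite field a polynomial in several variables which vanishes along a curve
through the point `h` with tangent direction `w`, for every `w`, is zero.
-/

set_option autoImplicit false
universe u v

namespace K218.JacDom

open MvPolynomial

variable {ι : Type u} {k : Type v} [Field k]

/-- scaling of homogeneous polynomials -/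
lemma aeval_mul_of_isHomogeneous {S : Type*} [CommRing S] [Algebra k S] {φ : MvPolynomial ι k} {n : ℕ}
    (hφ : φ.IsHomogeneous n) (s : S) (v : ι → S) :
    aeval (fun i => s * v i) φ = s ^ n * aeval v φ := by
  rw [aeval_def, aeval_def, eval₂_eq, eval₂_eq, Finset.mul_sum]
  refine Finset.sum_congr rfl fun d hd => ?_
  have h1 : d.degree = n := by
    have := hφ (mem_support_iff.mp hd)
    rw [Finsupp.degree_eq_weight_one]
    exact this
  simp only [mul_pow]
  rw [Finset.prod_mul_distrib, Finset.prod_pow_eq_pow_sum]
  have h2 : ∑ i ∈ d.support, d i = n := by rw [← h1]; rfl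
  rw [h2]
  ring

theorem eq_zero_of_curves_zero [Infinite k] (P : MvPolynomial ι k)
    (H : ∀ w : ι → k, ∃ v : ι → Polynomial k, (∀ i, (v i).coeff 0 = w i) ∧
      aeval (fun i => Polynomial.X * v i) P = 0) : P = 0 := by
  classical
  by_contra hP
  have hex : ∃ n, homogeneousComponent n P ≠ 0 := by
    by_contra hcon
    push Not at hcon
    apply hP
    rw [← sum_homogeneousComponent P]
    exact Finset.sum_eq_zero fun i _ => hcon i
  set n := Nat.find hex with hn
  have hn0 : homogeneousComponent n P ≠ 0 := Nat.find_spec hex
  have hlt : ∀ m < n, homogeneousComponent m P = 0 := fun m hm => not_not.mp (Nat.find_min hex hm)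
  apply hn0
  refine (homogeneousComponent_isHomogeneous n P).eq_zero_of_forall_eval_eq_zero fun w => ?_
  obtain ⟨v, hv, hvP⟩ := H w
  rw [← sum_homogeneousComponent P, map_sum] at hvP
  have h1 : ∀ m, aeval (fun i => Polynomial.X * v i) (homogeneousComponent m P) =
      Polynomial.X ^ m * aeval v (homogeneousComponent m P) := fun m =>
    aeval_mul_of_isHomogeneous (homogeneousComponent_isHomogeneous m P) _ _
  have h2 := congrArg (fun q => Polynomial.coeff q n) hvP
  simp only [Polynomial.finsetSum_coeff, Polynomial.coeff_zero, h1] at h2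
  have h3 : ∀ m, m ≠ n → (Polynomial.X ^ m * aeval v (homogeneousComponent m P)).coeff n = 0 := by
    intro m hm
    rcases lt_or_gt_of_ne hm with h | h
    · rw [hlt m h, map_zero, mul_zero, Polynomial.coeff_zero]
    · rw [Polynomial.coeff_X_pow_mul', if_neg (by omega)]
  have h4 : (Polynomial.X ^ n * aeval v (homogeneousComponent n P)).coeff n =
      eval w (homogeneousComponent n P) := by
    rw [Polynomial.coeff_X_pow_mul', if_pos le_rfl, Nat.sub_self]
    have h5 : ∀ q : Polynomial k, q.coeff 0 = Polynomial.aeval (0 : k) q := fun q => by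
      rw [Polynomial.coeff_zero_eq_aeval_zero]
    rw [h5, ← AlgHom.comp_apply, MvPolynomial.comp_aeval]
    have h6 : (fun i => (Polynomial.aeval (0 : k)) (v i)) = w := by
      funext i
      rw [← h5, hv]
    rw [h6]
    rfl
  by_cases hmem : n ∈ Finset.range (P.totalDegree + 1)
  · rw [Finset.sum_eq_single_of_mem n hmem (fun m _ hm => h3 m hm), h4] at h2
    exact h2
  · rw [homogeneousComponent_eq_zero]
    · exact map_zero _
    · rw [Finset.mem_range] at hmem
      omega

/-- A polynomial vanishing along curves through `h` in all directions is zero. -/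
theorem eq_zero_of_curves [Infinite k] (P : MvPolynomial ι k) (h : ι → k)
    (H : ∀ w : ι → k, ∃ u : ι → Polynomial k, (∀ i, (u i).coeff 0 = h i) ∧ (∀ i, (u i).coeff 1 = w i) ∧
      aeval u P = 0) : P = 0 := by
  have h0 : aeval (fun i => (X i : MvPolynomial ι k) - C (h i))
      (aeval (fun i => (X i : MvPolynomial ι k) + C (h i)) P) = P := by
    rw [← AlgHom.comp_apply, comp_aeval]
    conv_rhs => rw [← aeval_X_left_apply P]
    congr 2
    funext i
    simp
  suffices hs : aeval (fun i => (X i : MvPolynomial ι k) + C (h i)) P = 0 by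
    rw [← h0, hs, map_zero]
  refine eq_zero_of_curves_zero _ fun w => ?_
  obtain ⟨u, hu0, hu1, huP⟩ := H w
  refine ⟨fun i => (u i).divX, fun i => by rw [Polynomial.coeff_divX, hu1], ?_⟩
  rw [← AlgHom.comp_apply, comp_aeval, ← huP]
  congr 2
  funext i
  rw [map_add, aeval_X, aeval_C]
  conv_rhs => rw [← Polynomial.divX_mul_X_add (u i), hu0]
  rw [mul_comm]
  rfl

end K218.JacDom
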