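import Groth.Agent.SGA3t2b.K218.Ad.PMod
import Groth.Agent.SGA3t2b.K218.Ad.JacDom

/-!
# Curves in adjoint orbits

* `exists_curve`: the adjoint action of a `k[X]`-point `g` with tangent vector `x` on `h + X τ` has coordinates in
  `k[X]`, with constant term `h` and linear term `[x, h] + τ`;
* `eq_zero_of_orbits`: a polynomial function on `L` vanishing on the translates of a subspace `V` is zero if
  `[x, h] + V` is everything, `h ∈ V`, `x` in the tangent vectors of `k[X]`-points.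
-/

set_option autoImplicit false
universe u v

open Polynomial

namespace K218.LieP

open Groth.Agent.Sga3B Cell K929.LieDict

section dual

variable {k : Type u} [Field k]

/-- The truncation `k[X] → k[ε]`. -/
noncomputable def tr (k : Type u) [Field k] : k[X] →ₐ[k] DualNumber k := Polynomial.aeval DualNumber.eps

lemma tr_apply (u : k[X]) : (tr k u).fst = u.coeff 0 ∧ (tr k u).snd = u.coeff 1 := by
  induction u using Polynomial.induction_on' with
  | add p q hp hq =>
    rw [map_add, TrivSqZeroExt.fst_add, TrivSqZeroExt.snd_add, hp.1, hp.2, hq.1, hq.2,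
      Polynomial.coeff_add, Polynomial.coeff_add]
    exact ⟨rfl, rfl⟩
  | monomial n a =>
    unfold tr
    rw [Polynomial.aeval_monomial]
    match n with
    | 0 => simp [TrivSqZeroExt.algebraMap_eq_inl']
    | 1 => simp [TrivSqZeroExt.algebraMap_eq_inl', Polynomial.coeff_monomial]
    | n + 2 =>
      have h : (DualNumber.eps : DualNumber k) ^ (n + 2) = 0 := by
        rw [pow_add, pow_two, LieS.eps_sq, mul_zero]
      rw [h, mul_zero]
      simp [Polynomial.coeff_monomial]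

end dual

namespace PMod

variable {k : Type u} [Field k] {A : Type u} [CommRing A] [Algebra k A] [PtGrp k A]
  {L : Type v} [LieRing L] [LieAlgebra k L] (E : PMod k A L)

lemma snd_Q12 (w : L) (a : A) :
    ((E.Q (e1 k * e2 k) e12_sq w).hom a).snd = E.dl a w • DualNumber.eps := by
  change (evs (e1 k * e2 k) e12_sq ((E.P w).hom a)).snd = _
  rw [evs_apply, e12]
  apply TrivSqZeroExt.ext <;> simp [TrivSqZeroExt.algebraMap_eq_inl', dl_apply]

lemma snd_Q2 (w : L) (a : A) :
    ((E.Q (e2 k) e2_sq w).hom a).snd = algebraMap k (DualNumber k) (E.dl a w) := by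
  change (evs (e2 k) e2_sq ((E.P w).hom a)).snd = _
  rw [evs_apply]
  unfold e2
  apply TrivSqZeroExt.ext <;> simp [TrivSqZeroExt.algebraMap_eq_inl', dl_apply]

lemma map_tinl_P (x : L) : Pt.map (tinl k (DualNumber k)) (E.P x) = E.Q (e1 k) e1_sq x := by
  rw [← E.Q_eps x]
  exact E.map_Q _ _ _ _ _ rfl x

lemma Q12_mem (w : L) : E.Q (e1 k * e2 k) e12_sq w ∈ infP k A (DualNumber k) := by
  rw [mem_infP]
  refine E.Q_mem_fst _ _ w _ ?_
  rw [e12]
  rfl

lemma Q2_mem (w : L) : E.Q (e2 k) e2_sq w ∈ infP k A (DualNumber k) := by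
  rw [mem_infP]
  refine E.Q_mem_fst _ _ w _ rfl

/-- Conjugation by `1 + ε x`. -/
lemma conj_Q (x h τ : L) :
    E.Q (e1 k) e1_sq x * (E.Q (e2 k) e2_sq h * E.Q (e1 k * e2 k) e12_sq τ) * (E.Q (e1 k) e1_sq x)⁻¹ =
      E.Q (e1 k * e2 k) e12_sq ⁅x, h⁆ * E.Q (e2 k) e2_sq h * E.Q (e1 k * e2 k) e12_sq τ := by
  have h1 := E.Q_lie (e1 k) (e2 k) e1_sq e2_sq e12_sq x h
  have h2 := E.Q_comm (e1 k) (e1 k * e2 k) e1_sq e12_sq (by rw [← mul_assoc, e1_sq, zero_mul]) x τ
  rw [h1]
  have h3 : E.Q (e1 k) e1_sq x * (E.Q (e2 k) e2_sq h * E.Q (e1 k * e2 k) e12_sq τ) *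
      (E.Q (e1 k) e1_sq x)⁻¹ = E.Q (e1 k) e1_sq x * E.Q (e2 k) e2_sq h * (E.Q (e1 k) e1_sq x)⁻¹ *
        (E.Q (e1 k) e1_sq x * E.Q (e1 k * e2 k) e12_sq τ * (E.Q (e1 k) e1_sq x)⁻¹) := by group
  rw [h3, h2]
  group

lemma X_eps_sq : (TrivSqZeroExt.inr (X : k[X]) : DualNumber k[X]) * TrivSqZeroExt.inr X = 0 := by
  rw [TrivSqZeroExt.inr_mul_inr]

/-- Curves in adjoint orbits. -/
theorem exists_curve (g : Pt k A k[X]) (h τ x : L) (hg : Pt.map (tr k) g = E.P x) (a : A) :
    ∃ u : k[X], (∀ s : k, u.eval s = E.dl a (E.Ad (Pt.map (Polynomial.aeval s) g) (h + s • τ))) ∧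
      u.coeff 0 = E.dl a h ∧ u.coeff 1 = E.dl a (⁅x, h⁆ + τ) := by
  set y : Pt k A (DualNumber k[X]) := Pt.map (tinl k k[X]) g *
    (E.Q (DualNumber.eps : DualNumber k[X]) (LieS.eps_sq k[X]) h *
      E.Q (TrivSqZeroExt.inr (X : k[X]) : DualNumber k[X]) X_eps_sq τ) * (Pt.map (tinl k k[X]) g)⁻¹
    with hy
  refine ⟨(y.hom a).snd, fun s => ?_, ?_⟩
  · have h1 : Pt.map (dmap (Polynomial.aeval s)) y =
        E.P (E.Ad (Pt.map (Polynomial.aeval s) g) (h + s • τ)) := by
      rw [hy, Pt.map_mul, Pt.map_mul, Pt.map_mul, Pt.map_inv, Pt.map_map, dmap_comp_tinl,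
        ← Pt.map_map, E.P_Ad, E.P_add]
      congr 2
      rw [E.map_Q _ _ _ (DualNumber.eps : DualNumber k) (LieS.eps_sq k) (by
        apply TrivSqZeroExt.ext <;> simp), E.Q_eps]
      congr 1
      have h0 : (s • (DualNumber.eps : DualNumber k)) * (s • DualNumber.eps) = 0 := by
        rw [smul_mul_smul_comm, LieS.eps_sq, smul_zero]
      rw [E.map_Q _ _ _ (s • (DualNumber.eps : DualNumber k)) h0 (by
        apply TrivSqZeroExt.ext <;> simp), ← E.Q_smul _ (LieS.eps_sq k), E.Q_eps]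
    have h2 := congrArg (fun z : Pt k A (DualNumber k) => (z.hom a).snd) h1
    rw [dl_apply, ← h2, snd_dmap, Polynomial.coe_aeval_eq_eval]
  · have h1 : Pt.map (dmap (tr k)) y =
        E.Q (e1 k * e2 k) e12_sq ⁅x, h⁆ * E.Q (e2 k) e2_sq h * E.Q (e1 k * e2 k) e12_sq τ := by
      rw [← conj_Q, hy, Pt.map_mul, Pt.map_mul, Pt.map_mul, Pt.map_inv, Pt.map_map, dmap_comp_tinl,
        ← Pt.map_map, hg, map_tinl_P]
      congr 2
      congr 1
      · refine E.map_Q _ _ _ _ _ ?_ h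
        unfold e2
        apply TrivSqZeroExt.ext <;> simp
      · refine E.map_Q _ _ _ _ _ ?_ τ
        rw [e12]
        apply TrivSqZeroExt.ext
        · simp
        · simp [tr]
    have h2 := congrArg (fun z : Pt k A (DualNumber (DualNumber k)) => (z.hom a).snd) h1
    simp only [snd_dmap] at h2
    rw [snd_mul (mul_mem (E.Q12_mem _) (E.Q2_mem _)) (E.Q12_mem _), snd_mul (E.Q12_mem _) (E.Q2_mem _),
      snd_Q12, snd_Q12, snd_Q2] at h2
    obtain ⟨h3, h4⟩ := tr_apply ((y.hom a).snd)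
    rw [h2] at h3 h4
    constructor
    · rw [← h3]
      simp [TrivSqZeroExt.algebraMap_eq_inl']
    · rw [← h4, map_add]
      simp [TrivSqZeroExt.algebraMap_eq_inl']

/-- **Density of translates.** -/
theorem eq_zero_of_orbits [FiniteDimensional k L] [Infinite k] {ι : Type*} [Fintype ι]
    (b : Module.Basis ι k L) (V : Submodule k L) (h : L) (hV : h ∈ V)
    (H : ∀ w : L, ∃ x, ∃ τ ∈ V, w = ⁅x, h⁆ + τ ∧ ∃ g : Pt k A k[X], Pt.map (tr k) g = E.P x)
    (F : MvPolynomial ι k)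
    (hF : ∀ (g : Pt k A k) (y : L), y ∈ V → MvPolynomial.eval (b.repr (E.Ad g y)) F = 0) : F = 0 := by
  classical
  have hco : ∀ i, ∃ a : A, E.dl a = b.coord i := fun i => E.dl_surjective _
  choose a ha using hco
  refine K218.JacDom.eq_zero_of_curves F (fun i => b.repr h i) fun w => ?_
  obtain ⟨x, τ, hτ, hw, g, hg⟩ := H (b.equivFun.symm w)
  have hcur := fun i => E.exists_curve g h τ x hg (a i)
  choose u hu0 hu1 hu2 using hcur
  refine ⟨u, fun i => ?_, fun i => ?_, ?_⟩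
  · rw [hu1, ha]; rfl
  · rw [hu2, ha, ← hw]
    exact congrFun (b.equivFun.apply_symm_apply w) i
  · apply Polynomial.funext
    intro s
    rw [Polynomial.eval_zero]
    have h1 : ∀ q : k[X], q.eval s = Polynomial.aeval s q := fun q => by
      rw [Polynomial.coe_aeval_eq_eval]
    rw [h1, ← AlgHom.comp_apply, MvPolynomial.comp_aeval]
    have h2 : (fun i => (Polynomial.aeval s) (u i)) =
        ⇑(b.repr (E.Ad (Pt.map (Polynomial.aeval s) g) (h + s • τ))) := by
      funext i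
      rw [← h1, hu0, ha]
      rfl
    rw [h2]
    exact hF _ _ (V.add_mem hV (V.smul_mem s hτ))

end PMod

end K218.LieP
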