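import Groth.Agent.SGA3t2b.K218.Ad.Curve
import Groth.Agent.LieWt.K929.LieCell

/-!
# The Lie algebra of a group functor with a good datum

`D : Datum k A` a split torus and root homomorphisms, good (open cell), `L` the Lie algebra.
* `tors h`, `rootv a`: the elements of `L` coming from the torus and the root groups;
* `lie_tors_rootv`, `lie_tors_tors`: the brackets with the torus;
* `exists_decomp`, `decomp_unique`: `L` is the direct sum of the torus part and the root spaces;
* `eq_zero_of_torus`: density of the translates of the Lie algebra of the torus.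
-/

set_option autoImplicit false
universe u v

open Polynomial

namespace K218.LieP

open Groth.Agent.Sga3B Cell K929.LieDict K929.LieCell

section tpt

variable {k : Type u} [Field k] {M : Type} [AddCommGroup M] {C C' : Type u} [CommRing C] [Algebra k C]
  [CommRing C'] [Algebra k C']

/-- the infinitesimal torus point `1 + s h` -/
def tpt (s : C) (hs : s * s = 0) (h : M →+ k) : TPt M C where
  toFun m :=
    { val := 1 + h m.toAdd • s
      inv := 1 - h m.toAdd • s
      val_inv := by
        have : (h m.toAdd • s) * (h m.toAdd • s) = 0 := by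
          rw [smul_mul_smul_comm, hs, smul_zero]
        linear_combination (-1 : C) * this
      inv_val := by
        have : (h m.toAdd • s) * (h m.toAdd • s) = 0 := by
          rw [smul_mul_smul_comm, hs, smul_zero]
        linear_combination (-1 : C) * this }
  map_one' := by
    ext
    simp
  map_mul' m n := by
    ext
    simp only [toAdd_mul, map_add, Units.val_mul]
    have : (h m.toAdd • s) * (h n.toAdd • s) = 0 := by
      rw [smul_mul_smul_comm, hs, smul_zero]
    rw [add_smul]
    linear_combination (-1 : C) * this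

@[simp] lemma ch_tpt (s : C) (hs : s * s = 0) (h : M →+ k) (m : M) :
    TPt.ch m (tpt s hs h) = 1 + h m • s := rfl

lemma map_tpt (φ : C →ₐ[k] C') (s : C) (hs : s * s = 0) (s' : C') (hs' : s' * s' = 0)
    (e : φ s = s') (h : M →+ k) : TPt.map φ (tpt s hs h) = tpt s' hs' h := by
  subst e
  apply TPt.ext_ch
  intro m
  simp

lemma tpt_add (s : C) (hs : s * s = 0) (h h' : M →+ k) :
    tpt s hs (h + h') = tpt s hs h * tpt s hs h' := by
  apply TPt.ext_ch
  intro m
  rw [TPt.ch_mul, ch_tpt, ch_tpt, ch_tpt]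
  have : (h m • s) * (h' m • s) = 0 := by
    rw [smul_mul_smul_comm, hs, smul_zero]
  rw [AddMonoidHom.add_apply, add_smul]
  linear_combination (-1 : C) * this

lemma tpt_smul (s : C) (hs : s * s = 0) (r : k) (hs' : (r • s) * (r • s) = 0) (h : M →+ k) :
    tpt (r • s) hs' h = tpt s hs (r • h) := by
  apply TPt.ext_ch
  intro m
  rw [ch_tpt, ch_tpt, AddMonoidHom.smul_apply, smul_smul, smul_eq_mul, mul_comm]

lemma map_tpt_add {P : Type*} [Group P] (f : TPt M C →* P) (s : C) (hs : s * s = 0)
    (h h' : M →+ k) : f (tpt s hs (h + h')) = f (tpt s hs h) * f (tpt s hs h') := by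
  rw [tpt_add, map_mul]

lemma map_tpt_comm {P : Type*} [Group P] (f : TPt M C →* P) (t t' : TPt M C) :
    f t * f t' * (f t)⁻¹ * (f t')⁻¹ = 1 := by
  rw [← map_mul, mul_comm t t', map_mul]
  group

lemma map_tpt_nat {P P' : Type*} (f : TPt M C → P) (f' : TPt M C' → P') (F : P → P')
    (φ : C →ₐ[k] C') (hF : ∀ t, F (f t) = f' (TPt.map φ t)) (s : C) (hs : s * s = 0) (s' : C')
    (hs' : s' * s' = 0) (e : φ s = s') (h : M →+ k) : F (f (tpt s hs h)) = f' (tpt s' hs' h) := by
  rw [hF, map_tpt φ s hs s' hs' e]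

/-- Every infinitesimal torus point is of the form `1 + ε h`. -/
lemma exists_tpt {t : TPt M (DualNumber k)} (ht : TInf M k t) :
    ∃ h : M →+ k, t = tpt (DualNumber.eps : DualNumber k) (LieS.eps_sq k) h := by
  refine ⟨{ toFun := fun m => (TPt.ch m t).snd
            map_zero' := by rw [TPt.ch_zero]; rfl
            map_add' := fun m n => by
              rw [TPt.ch_add, DualNumber.snd_mul, ch_fst ht, ch_fst ht, one_mul, mul_one, add_comm] }, ?_⟩
  apply TPt.ext_ch
  intro m
  rw [ch_tpt]
  apply TrivSqZeroExt.ext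
  · rw [ch_fst ht]
    simp
  · simp

lemma tInf_tpt (h : M →+ k) :
    TInf M k (tpt (DualNumber.eps : DualNumber k) (LieS.eps_sq k) h) := by
  change TPt.map (tfst k k) _ = 1
  apply TPt.ext_ch
  intro m
  simp

end tpt

namespace PMod

variable {k : Type u} [Field k] {A : Type u} [CommRing A] [Algebra k A] [PtGrp k A]
  {L : Type v} [LieRing L] [LieAlgebra k L] (E : PMod k A L) (D : Datum k A)
  {B C : Type u} [CommRing B] [Algebra k B] [CommRing C] [Algebra k C]

lemma i_tpt_mem (h : D.M →+ k) :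
    D.i _ (tpt (DualNumber.eps : DualNumber k) (LieS.eps_sq k) h) ∈ infP k A k := by
  rw [mem_infP, D.i_nat]
  have : TPt.map (tfst k k) (tpt (DualNumber.eps : DualNumber k) (LieS.eps_sq k) h) = 1 := by
    apply TPt.ext_ch
    intro m
    simp
  rw [this, map_one]

/-- The element of the Lie algebra of the torus attached to an additive map `h : M → k`. -/
noncomputable def tors0 (h : D.M →+ k) : L := (E.P_surj _ (i_tpt_mem D h)).choose

lemma P_tors0 (h : D.M →+ k) :
    E.P (E.tors0 D h) = D.i _ (tpt (DualNumber.eps : DualNumber k) (LieS.eps_sq k) h) :=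
  (E.P_surj _ (i_tpt_mem D h)).choose_spec

/-- The Lie algebra of the torus. -/
noncomputable def tors : (D.M →+ k) →ₗ[k] L where
  toFun := E.tors0 D
  map_add' h h' := by
    apply E.P_inj
    rw [E.P_add, P_tors0, P_tors0, P_tors0]
    exact map_tpt_add (D.i _) _ _ h h'
  map_smul' r h := by
    apply E.P_inj
    have h0 : (r • (DualNumber.eps : DualNumber k)) * (r • DualNumber.eps) = 0 := by
      rw [smul_mul_smul_comm, LieS.eps_sq, smul_zero]
    rw [E.P_smul, P_tors0, P_tors0]
    have h1 : dscale k r (DualNumber.eps : DualNumber k) = r • (DualNumber.eps : DualNumber k) := by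
      apply TrivSqZeroExt.ext <;> simp
    have h2 := map_tpt_nat (D.i (DualNumber k)) (D.i (DualNumber k)) (Pt.map (dscale k r))
      (dscale k r) (D.i_nat (dscale k r)) _ (LieS.eps_sq k) _ h0 h1 h
    rw [tpt_smul _ (LieS.eps_sq k)] at h2
    exact h2.symm

lemma P_tors (h : D.M →+ k) :
    E.P (E.tors D h) = D.i _ (tpt (DualNumber.eps : DualNumber k) (LieS.eps_sq k) h) := E.P_tors0 D h

lemma Q_tors (s : C) (hs : s * s = 0) (h : D.M →+ k) :
    E.Q s hs (E.tors D h) = D.i C (tpt s hs h) := by
  unfold Q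
  rw [P_tors]
  have h1 : evs s hs (DualNumber.eps : DualNumber k) = s := by
    rw [evs_apply]
    simp
  exact map_tpt_nat (D.i (DualNumber k)) (D.i C) (Pt.map (evs s hs))
      (evs s hs) (D.i_nat (evs s hs)) _ (LieS.eps_sq k) _ hs h1 h

lemma tors_injective : Function.Injective (E.tors D) := by
  intro h h' e
  have h1 := congrArg E.P e
  rw [P_tors, P_tors] at h1
  have h2 := D.i_inj _ h1
  ext m
  have h3 := congrArg (fun t => (TPt.ch m t).snd) h2
  simpa using h3

/-- The root vector. -/
noncomputable def rootv (a : D.idx) : L := (E.P_surj _ (uu_mem D a (1 : k))).choose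

lemma P_rootv (a : D.idx) : E.P (E.rootv D a) = D.uu a (DualNumber k) (TrivSqZeroExt.inr 1) :=
  (E.P_surj _ (uu_mem D a (1 : k))).choose_spec

lemma P_smul_rootv (a : D.idx) (ξ : k) :
    E.P (ξ • E.rootv D a) = D.uu a (DualNumber k) (TrivSqZeroExt.inr ξ) := by
  rw [E.P_smul, P_rootv, D.uu_nat, dscale_inr, mul_one]

lemma Q_smul_rootv (s : C) (hs : s * s = 0) (a : D.idx) (ξ : k) :
    E.Q s hs (ξ • E.rootv D a) = D.uu a C (ξ • s) := by
  unfold Q
  rw [P_smul_rootv, D.uu_nat]
  congr 1
  rw [evs_apply, TrivSqZeroExt.fst_inr, TrivSqZeroExt.snd_inr, map_zero, zero_add,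
    Algebra.smul_def]

lemma Q_rootv (s : C) (hs : s * s = 0) (a : D.idx) :
    E.Q s hs (E.rootv D a) = D.uu a C s := by
  have := E.Q_smul_rootv D s hs a 1
  rwa [one_smul, one_smul] at this

/-- The bracket of the torus with a root vector. -/
theorem lie_tors_rootv (h : D.M →+ k) (a : D.idx) :
    ⁅E.tors D h, E.rootv D a⁆ = h (D.root a) • E.rootv D a := by
  apply E.Q12_injective
  rw [E.Q_lie (e1 k) (e2 k) e1_sq e2_sq e12_sq, Q_tors, Q_rootv, D.rel, Q_smul_rootv, ← D.uu_neg,
    ← D.uu_add]
  congr 1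
  rw [ch_tpt, add_mul, one_mul, smul_mul_assoc]
  ring

theorem lie_tors_tors (h h' : D.M →+ k) : ⁅E.tors D h, E.tors D h'⁆ = 0 := by
  apply E.Q12_injective
  rw [E.Q_lie (e1 k) (e2 k) e1_sq e2_sq e12_sq, Q_tors, Q_tors, E.Q_zero]
  exact map_tpt_comm (D.i _) _ _

lemma P_list_sum (l : List L) : E.P l.sum = (l.map E.P).prod := by
  induction l with
  | nil => simp [E.P_zero]
  | cons a l ih => rw [List.sum_cons, List.map_cons, List.prod_cons, E.P_add, ih]

lemma P_cell (l : List D.idx) (ξ : D.idx → k) (h : D.M →+ k) :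
    E.P ((l.map (fun a => ξ a • E.rootv D a)).sum + E.tors D h) =
      D.cell l (fun a => TrivSqZeroExt.inr (ξ a))
        (tpt (DualNumber.eps : DualNumber k) (LieS.eps_sq k) h) := by
  rw [E.P_add, P_list_sum, P_tors, List.map_map]
  unfold Datum.cell
  congr 2
  refine List.map_congr_left fun a _ => ?_
  exact E.P_smul_rootv D a (ξ a)

/-- **Decomposition of the Lie algebra.** -/
theorem exists_decomp (hG : D.Good) (x : L) :
    ∃ (ξ : D.idx → k) (h : D.M →+ k), x = ∑ a, ξ a • E.rootv D a + E.tors D h := by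
  obtain ⟨ξ, t, ht, he⟩ := exists_cell D hG (Finset.nodup_toList Finset.univ)
      (fun a => Finset.mem_toList.mpr (Finset.mem_univ a)) (E.P_mem x)
  obtain ⟨h, rfl⟩ := exists_tpt ht
  refine ⟨ξ, h, ?_⟩
  apply E.P_inj
  rw [he, ← E.P_cell D, Finset.sum_map_toList]

/-- The components are unique. -/
theorem decomp_unique {ξ ξ' : D.idx → k} {h h' : D.M →+ k}
    (e : ∑ a, ξ a • E.rootv D a + E.tors D h = ∑ a, ξ' a • E.rootv D a + E.tors D h') :
    ξ = ξ' ∧ h = h' := by
  have h1 := congrArg E.P e
  rw [← Finset.sum_map_toList, ← Finset.sum_map_toList, E.P_cell, E.P_cell] at h1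
  obtain ⟨h2, h3⟩ := cell_unique D (Finset.nodup_toList Finset.univ)
      (fun a => Finset.mem_toList.mpr (Finset.mem_univ a)) (tInf_tpt h) (tInf_tpt h') h1
  refine ⟨h2, ?_⟩
  ext m
  have h4 := congrArg (fun t => (TPt.ch m t).snd) h3
  simpa using h4

lemma lie_tors_sum (h : D.M →+ k) (ξ : D.idx → k) (h' : D.M →+ k) :
    ⁅E.tors D h, ∑ a, ξ a • E.rootv D a + E.tors D h'⁆ =
      ∑ a, (h (D.root a) * ξ a) • E.rootv D a := by
  rw [lie_add, lie_tors_tors, add_zero, lie_sum]
  refine Finset.sum_congr rfl fun a _ => ?_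
  rw [lie_smul, lie_tors_rootv, smul_smul, mul_comm]

/-- Sums of root vectors are tangent vectors of `k[X]`-points. -/
lemma exists_point (ξ : D.idx → k) :
    ∃ g : Pt k A k[X], Pt.map (tr k) g = E.P (∑ a, ξ a • E.rootv D a) := by
  classical
  refine ⟨(Finset.univ.toList.map (fun a => D.uu a k[X] (ξ a • (X : k[X])))).prod, ?_⟩
  rw [← Finset.sum_map_toList, P_list_sum, Pt.map_list_prod, List.map_map, List.map_map]
  congr 1
  refine List.map_congr_left fun a _ => ?_
  change Pt.map (tr k) (D.uu a k[X] (ξ a • (X : k[X]))) = E.P (ξ a • E.rootv D a)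
  rw [D.uu_nat, P_smul_rootv]
  congr 1
  rw [map_smul]
  unfold tr
  rw [aeval_X]
  apply TrivSqZeroExt.ext <;> simp

/-- **Density of the translates of the Lie algebra of the torus**, if there is an element on which no
root vanishes. -/
theorem eq_zero_of_torus [FiniteDimensional k L] [Infinite k] (hG : D.Good) {ι : Type*} [Fintype ι]
    (b : Module.Basis ι k L) (h : D.M →+ k) (hh : ∀ a, h (D.root a) ≠ 0) (F : MvPolynomial ι k)
    (hF : ∀ (g : Pt k A k) (h' : D.M →+ k), MvPolynomial.eval (b.repr (E.Ad g (E.tors D h'))) F = 0) :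
    F = 0 := by
  refine E.eq_zero_of_orbits b (LinearMap.range (E.tors D)) (E.tors D h) ⟨h, rfl⟩ ?_ F ?_
  · intro w
    obtain ⟨ξ, h', rfl⟩ := E.exists_decomp D hG w
    refine ⟨∑ a, (-((h (D.root a))⁻¹ * ξ a)) • E.rootv D a, E.tors D h', ⟨h', rfl⟩, ?_,
      E.exists_point D _⟩
    congr 1
    rw [← lie_skew]
    have h1 := E.lie_tors_sum D h (fun a => -((h (D.root a))⁻¹ * ξ a)) 0
    rw [map_zero, add_zero] at h1
    rw [h1, ← Finset.sum_neg_distrib]
    refine Finset.sum_congr rfl fun a _ => ?_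
    rw [← neg_smul]
    congr 1
    field_simp [hh a]
  · rintro g _ ⟨h', rfl⟩
    exact hF g h'

end PMod

end K218.LieP
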