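import Groth.Agent.SGA3t2b.K218.Ad.PMod
import Groth.Agent.LieWt.K929.LieSplit
import Groth.Agent.LieS.K988.Brk

/-!
# The points model attached to a Lie algebra model of a group scheme over a field
-/

set_option autoImplicit false
universe u v

open CategoryTheory MonoidalCategory CartesianMonoidalCategory MonObj GrpObj AlgebraicGeometry Limits

namespace K218.LieP

open Groth.Agent.Sga3B Cell PinMod DSPts K929.LieDict K929.LieCell K929.LieSplit

section

variable {k : Type u} [Field k] {G : Over (Spec (CommRingCat.of k))} [GrpObj G]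
  (c : Chart G (𝟙 (Spec (CommRingCat.of k)))) {C : Type u} [CommRing C] [Algebra k C]

lemma evs_coe (s : C) (hs : s * s = 0) :
    (evs (k := k) s hs : DualNumber k →+* C) = LieS.dualHom (Algebra.ofId k C).toRingHom s hs := by
  apply RingHom.ext
  intro x
  change evs s hs x = _
  rw [evs_apply, LieS.dualHom_apply]
  rfl

lemma tMap_evs (s : C) (hs : s * s = 0) :
    tMap (𝟙 (Spec (CommRingCat.of k))) (evs (k := k) s hs) ≫ (castD (str_eq k k)).hom =
      (castP (comp_hf (str_eq k k) (Algebra.ofId k C))).hom ≫
        K988.LieCalc.ev (str k k) (Algebra.ofId k C).toRingHom s hs := by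
  ext
  change Spec.map (CommRingCat.ofHom (evs (k := k) s hs : DualNumber k →+* C)) ≫ 𝟙 _ =
    𝟙 _ ≫ Spec.map (CommRingCat.ofHom (LieS.dualHom (Algebra.ofId k C).toRingHom s hs))
  rw [Category.comp_id, Category.id_comp, evs_coe]

lemma pts_evs (s : C) (hs : s * s = 0) (x : LieS.LieR G k) :
    c.pts C (Pt.map (evs s hs) (infR c k x)) =
      (castP (comp_hf (str_eq k k) (Algebra.ofId k C))).hom ≫
        K988.LieCalc.ev (str k k) (Algebra.ofId k C).toRingHom s hs ≫ x.1 := by
  rw [← c.pts_nat]
  change _ ≫ c.pts _ (inf c (str_eq k k) x) = _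
  rw [pts_inf, ← Category.assoc, tMap_evs, Category.assoc]

/-- the bracket and commutators of infinitesimal points -/
theorem evs_commutator (x y z : LieS.LieR G k)
    (h : LieS.IsBracket G k (str k k) x y z) (s t : C) (hs : s * s = 0)
    (ht : t * t = 0) (hst : (s * t) * (s * t) = 0) :
    Pt.map (evs (s * t) hst) (infR c k z) =
      Pt.map (evs s hs) (infR c k x) * Pt.map (evs t ht) (infR c k y) *
      (Pt.map (evs s hs) (infR c k x))⁻¹ * (Pt.map (evs t ht) (infR c k y))⁻¹ := by
  apply (c.pts C).injective
  rw [map_mul, map_mul, map_mul, map_inv, map_inv, pts_evs, pts_evs, pts_evs,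
    K988.LieBrk.eq_brk (str k k) G h]
  have h1 := K988.LieBrk.ev_commutator (str k k) G x y (Algebra.ofId k C).toRingHom s t (s * t) hs ht
    hst (mul_comm s t)
  rw [← h1]
  unfold K988.LieBrk.cm
  rw [MonObj.comp_mul, MonObj.comp_mul, MonObj.comp_mul, GrpObj.comp_inv, GrpObj.comp_inv]

/-- The points model of a Lie algebra model. -/
noncomputable def ofModel {L : Type v} [LieRing L] [LieAlgebra k L]
    (m : LieS.Model G k (str k k) L) : PMod k c.A L where
  P x := infR c k (m.e (Multiplicative.ofAdd x))
  P_add x y := by rw [ofAdd_add, map_mul, map_mul]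
  P_smul r x := by rw [m.e_smul, infR_smul]
  P_inj x y h := by
    have h1 := m.e.injective (infR_injective c h)
    exact Multiplicative.ofAdd.injective h1
  P_mem x := infR_mem c _
  P_surj g hg := by
    obtain ⟨x, hx⟩ := exists_infR c hg
    refine ⟨Multiplicative.toAdd (m.e.symm x), ?_⟩
    rw [ofAdd_toAdd, MulEquiv.apply_symm_apply, hx]
  P_lie x y {C} _ _ s t hs ht hst := evs_commutator c _ _ _ (m.e_lie x y) s t hs ht hst

@[simp] lemma ofModel_P {L : Type v} [LieRing L] [LieAlgebra k L]
    (m : LieS.Model G k (str k k) L) (x : L) :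
    (ofModel c m).P x = infR c k (m.e (Multiplicative.ofAdd x)) := rfl

end

end K218.LieP
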