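import Groth.Agent.LieWt.K929.LieDict
import Mathlib.LinearAlgebra.Dual.Lemmas
import Mathlib.Algebra.Lie.OfAssociative
import Mathlib.LinearAlgebra.Charpoly.ToMatrix

/-!
# The Lie algebra of an affine group functor over a field, functor-of-points form

`PMod k A L`: the Lie algebra `L` over the field `k` is identified with the infinitesimal points of `Spec A`.
* `P_lie`: commutators of evaluations at square-zero elements;
* `dl`: the coordinate functionals `A → L^*`, surjective;
* `Ad g`: the adjoint action of a point, an automorphism of `L`.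
-/

set_option autoImplicit false
universe u v

namespace K218.LieP

open Groth.Agent.Sga3B Cell K929.LieDict

section ev

variable {k : Type u} [Field k] {B C : Type u} [CommRing B] [Algebra k B] [CommRing C] [Algebra k C]

/-- evaluation at a square-zero element -/
noncomputable def evs (s : C) (hs : s * s = 0) : DualNumber k →ₐ[k] C where
  toRingHom := LieS.dualHom (algebraMap k C) s hs
  commutes' r := by
    change algebraMap k C (algebraMap k (DualNumber k) r).fst +
      algebraMap k C (algebraMap k (DualNumber k) r).snd * s = _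
    simp [TrivSqZeroExt.algebraMap_eq_inl']

lemma evs_apply (s : C) (hs : s * s = 0) (x : DualNumber k) :
    evs s hs x = algebraMap k C x.fst + algebraMap k C x.snd * s := rfl

lemma comp_evs (φ : C →ₐ[k] B) (s : C) (hs : s * s = 0) (s' : B) (hs' : s' * s' = 0)
    (h : φ s = s') : φ.comp (evs (k := k) s hs) = evs s' hs' := by
  subst h
  apply AlgHom.ext
  intro x
  simp [evs_apply]

lemma evs_congr {s t : C} {hs : s * s = 0} {ht : t * t = 0} (h : s = t) :
    evs (k := k) s hs = evs t ht := by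
  subst h; rfl

lemma evs_eps : evs (k := k) (DualNumber.eps : DualNumber k) (LieS.eps_sq k) =
    AlgHom.id k (DualNumber k) := by
  apply AlgHom.ext
  intro x
  rw [evs_apply]
  apply TrivSqZeroExt.ext <;> simp [TrivSqZeroExt.algebraMap_eq_inl']

lemma evs_scale (r : k) (h : (r • (DualNumber.eps : DualNumber k)) * (r • DualNumber.eps) = 0) :
    evs (k := k) (r • (DualNumber.eps : DualNumber k)) h = dscale k r := by
  apply AlgHom.ext
  intro x
  rw [evs_apply]
  apply TrivSqZeroExt.ext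
  · simp [TrivSqZeroExt.algebraMap_eq_inl']
  · simp [TrivSqZeroExt.algebraMap_eq_inl', mul_comm]

lemma evs_comp_dscale (s : C) (hs : s * s = 0) (r : k) (hs' : (r • s) * (r • s) = 0) :
    (evs (k := k) s hs).comp (dscale k r) = evs (r • s) hs' := by
  apply AlgHom.ext
  intro x
  rw [AlgHom.comp_apply, evs_apply, evs_apply, dscale_fst, dscale_snd, map_mul, Algebra.smul_def]
  ring

lemma evs_comp_tinl (s : C) (hs : s * s = 0) :
    (evs (k := k) s hs).comp (tinl k k) = Algebra.ofId k C := by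
  apply AlgHom.ext
  intro x
  rw [AlgHom.comp_apply, evs_apply]
  simp

lemma evs_injective {s : C} {hs : s * s = 0}
    (h : ∀ a b : k, algebraMap k C a + algebraMap k C b * s = 0 → a = 0 ∧ b = 0) :
    Function.Injective (evs (k := k) s hs) := by
  rw [injective_iff_map_eq_zero]
  intro x hx
  obtain ⟨h1, h2⟩ := h _ _ hx
  exact TrivSqZeroExt.ext h1 h2

end ev

variable (k : Type u) [Field k] (A : Type u) [CommRing A] [Algebra k A] [PtGrp k A]
  (L : Type v) [LieRing L] [LieAlgebra k L]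

/-- The Lie algebra `L` is the Lie algebra of the group functor `Spec A`. -/
structure PMod where
  /-- the infinitesimal point of an element -/
  P : L → Pt k A (DualNumber k)
  P_add : ∀ x y : L, P (x + y) = P x * P y
  P_smul : ∀ (r : k) (x : L), P (r • x) = Pt.map (dscale k r) (P x)
  P_inj : Function.Injective P
  P_mem : ∀ x, P x ∈ infP k A k
  P_surj : ∀ g ∈ infP k A k, ∃ x, P x = g
  P_lie : ∀ (x y : L) {C : Type u} [CommRing C] [Algebra k C] (s t : C) (hs : s * s = 0)
    (ht : t * t = 0) (hst : (s * t) * (s * t) = 0),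
    Pt.map (evs (s * t) hst) (P ⁅x, y⁆) = Pt.map (evs s hs) (P x) * Pt.map (evs t ht) (P y) *
      (Pt.map (evs s hs) (P x))⁻¹ * (Pt.map (evs t ht) (P y))⁻¹

namespace PMod

variable {k A L} (E : PMod k A L) {B C : Type u} [CommRing B] [Algebra k B] [CommRing C] [Algebra k C]

/-- The value of the infinitesimal point at a square-zero element. -/
noncomputable def Q (s : C) (hs : s * s = 0) (x : L) : Pt k A C := Pt.map (evs s hs) (E.P x)

lemma P_zero : E.P 0 = 1 := by
  have h := E.P_add 0 0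
  rw [add_zero] at h
  exact (mul_eq_left.mp h.symm)

lemma P_neg (x : L) : E.P (-x) = (E.P x)⁻¹ := by
  rw [eq_inv_iff_mul_eq_one, ← E.P_add, neg_add_cancel, E.P_zero]

lemma Q_add (s : C) (hs : s * s = 0) (x y : L) : E.Q s hs (x + y) = E.Q s hs x * E.Q s hs y := by
  unfold Q
  rw [E.P_add, Pt.map_mul]

lemma Q_zero (s : C) (hs : s * s = 0) : E.Q s hs 0 = 1 := by
  unfold Q
  rw [E.P_zero, Pt.map_one]

lemma Q_neg (s : C) (hs : s * s = 0) (x : L) : E.Q s hs (-x) = (E.Q s hs x)⁻¹ := by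
  unfold Q
  rw [E.P_neg, Pt.map_inv]

lemma Q_congr {s t : C} {hs : s * s = 0} {ht : t * t = 0} (h : s = t) (x : L) :
    E.Q s hs x = E.Q t ht x := by subst h; rfl

lemma Q_at_zero (h0 : (0 : C) * 0 = 0) (x : L) : E.Q (0 : C) h0 x = 1 := by
  unfold Q
  have h1 : evs (k := k) (0 : C) h0 = (Algebra.ofId k C).comp (tfst k k) := by
    apply AlgHom.ext
    intro y
    rw [evs_apply, mul_zero, add_zero]
    rfl
  rw [h1, ← Pt.map_map, show Pt.map (tfst k k) (E.P x) = 1 from E.P_mem x, Pt.map_one]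

lemma map_Q (φ : C →ₐ[k] B) (s : C) (hs : s * s = 0) (s' : B) (hs' : s' * s' = 0)
    (h : φ s = s') (x : L) : Pt.map φ (E.Q s hs x) = E.Q s' hs' x := by
  unfold Q
  rw [Pt.map_map, comp_evs φ s hs s' hs' h]

lemma Q_smul (s : C) (hs : s * s = 0) (r : k) (hs' : (r • s) * (r • s) = 0) (x : L) :
    E.Q s hs (r • x) = E.Q (r • s) hs' x := by
  unfold Q
  rw [E.P_smul, Pt.map_map, evs_comp_dscale]

lemma Q_eps (x : L) : E.Q (DualNumber.eps : DualNumber k) (LieS.eps_sq k) x = E.P x := by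
  unfold Q
  rw [evs_eps, Pt.map_id]

lemma Q_lie (s t : C) (hs : s * s = 0) (ht : t * t = 0) (hst : (s * t) * (s * t) = 0) (x y : L) :
    E.Q (s * t) hst ⁅x, y⁆ = E.Q s hs x * E.Q t ht y * (E.Q s hs x)⁻¹ * (E.Q t ht y)⁻¹ :=
  E.P_lie x y s t hs ht hst

lemma Q_comm (s t : C) (hs : s * s = 0) (ht : t * t = 0) (hst : s * t = 0) (x y : L) :
    E.Q s hs x * E.Q t ht y = E.Q t ht y * E.Q s hs x := by
  have h0 : (s * t) * (s * t) = 0 := by rw [hst, mul_zero]
  have h1 := E.Q_lie s t hs ht h0 x y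
  rw [E.Q_congr (ht := by rw [mul_zero]) hst, E.Q_at_zero] at h1
  have h2 : E.Q s hs x * E.Q t ht y * (E.Q t ht y * E.Q s hs x)⁻¹ = 1 := by
    rw [mul_inv_rev, ← mul_assoc, h1]
  exact mul_inv_eq_one.mp h2

/-- `E1 E2` in the iterated dual numbers. -/
noncomputable def e1 (k : Type u) [Field k] : DualNumber (DualNumber k) :=
  TrivSqZeroExt.inl DualNumber.eps

/-- the second coordinate -/
noncomputable def e2 (k : Type u) [Field k] : DualNumber (DualNumber k) := DualNumber.eps

lemma e1_sq : e1 k * e1 k = 0 := by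
  unfold e1
  rw [← TrivSqZeroExt.inl_mul, LieS.eps_sq, TrivSqZeroExt.inl_zero]

lemma e2_sq : e2 k * e2 k = 0 := LieS.eps_sq (DualNumber k)

lemma e12_sq : (e1 k * e2 k) * (e1 k * e2 k) = 0 := by
  have : (e1 k * e2 k) * (e1 k * e2 k) = (e1 k * e1 k) * (e2 k * e2 k) := by ring
  rw [this, e1_sq, zero_mul]

lemma e12 : e1 k * e2 k = TrivSqZeroExt.inr DualNumber.eps := by
  unfold e1 e2
  apply TrivSqZeroExt.ext <;> simp

lemma evs_e12_injective : Function.Injective (evs (k := k) (e1 k * e2 k) e12_sq) := by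
  apply evs_injective
  intro a b h
  have h1 := congrArg TrivSqZeroExt.fst h
  have h2 := congrArg TrivSqZeroExt.snd h
  have h3 := congrArg TrivSqZeroExt.fst h1
  have h4 := congrArg TrivSqZeroExt.snd h2
  rw [e12] at h3 h4
  constructor
  · simpa [TrivSqZeroExt.algebraMap_eq_inl'] using h3
  · simpa [TrivSqZeroExt.algebraMap_eq_inl'] using h4

/-- Elements of `L` are determined by the value at `ε₁ ε₂`. -/
lemma Q12_injective : Function.Injective (E.Q (e1 k * e2 k) e12_sq) := by
  intro x y h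
  exact E.P_inj (Pt.map_injective evs_e12_injective h)

section dl

lemma Q_mem_fst (s : C) (hs : s * s = 0) (x : L) (φ : C →ₐ[k] B) (h : φ s = 0) :
    Pt.map φ (E.Q s hs x) = 1 := by
  rw [E.map_Q φ s hs 0 (by rw [mul_zero]) h, E.Q_at_zero]

/-- The coordinate functional of a function. -/
noncomputable def dl : A →ₗ[k] Module.Dual k L where
  toFun a :=
    { toFun := fun x => ((E.P x).hom a).snd
      map_add' := fun x y => by rw [E.P_add, snd_mul (E.P_mem x) (E.P_mem y)]
      map_smul' := fun r x => by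
        rw [E.P_smul, snd_scale]
        rfl }
  map_add' a b := by
    ext x
    change ((E.P x).hom (a + b)).snd = ((E.P x).hom a).snd + ((E.P x).hom b).snd
    rw [map_add, TrivSqZeroExt.snd_add]
  map_smul' r a := by
    ext x
    change ((E.P x).hom (r • a)).snd = r • ((E.P x).hom a).snd
    rw [map_smul, TrivSqZeroExt.snd_smul]

lemma dl_apply (a : A) (x : L) : E.dl a x = ((E.P x).hom a).snd := rfl

lemma eq_zero_of_dl {x : L} (h : ∀ a, E.dl a x = 0) : x = 0 := by
  apply E.P_inj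
  rw [E.P_zero]
  apply infP_ext (E.P_mem x) (one_mem _)
  intro a
  rw [snd_one]
  exact h a

/-- Every functional is a coordinate functional. -/
theorem dl_surjective [FiniteDimensional k L] : Function.Surjective E.dl := by
  have h1 : (LinearMap.range E.dl).dualCoannihilator = ⊥ := by
    rw [eq_bot_iff]
    intro x hx
    rw [Submodule.mem_dualCoannihilator] at hx
    exact E.eq_zero_of_dl fun a => hx _ ⟨a, rfl⟩
  rw [← LinearMap.range_eq_top, ← Subspace.dualCoannihilator_dualAnnihilator_eq (W := LinearMap.range E.dl),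
    h1, Submodule.dualAnnihilator_bot]

end dl

section Ad

/-- The adjoint action of a point, as a map. -/
noncomputable def Ad0 (g : Pt k A k) (x : L) : L :=
  (E.P_surj (Pt.map (tinl k k) g * E.P x * (Pt.map (tinl k k) g)⁻¹) (infP_conj (E.P_mem x) _)).choose

lemma P_Ad0 (g : Pt k A k) (x : L) :
    E.P (E.Ad0 g x) = Pt.map (tinl k k) g * E.P x * (Pt.map (tinl k k) g)⁻¹ :=
  (E.P_surj (Pt.map (tinl k k) g * E.P x * (Pt.map (tinl k k) g)⁻¹) (infP_conj (E.P_mem x) _)).choose_spec

lemma Q_Ad0 (g : Pt k A k) (s : C) (hs : s * s = 0) (x : L) :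
    E.Q s hs (E.Ad0 g x) = Pt.map (Algebra.ofId k C) g * E.Q s hs x * (Pt.map (Algebra.ofId k C) g)⁻¹ := by
  unfold Q
  rw [E.P_Ad0, Pt.map_mul, Pt.map_mul, Pt.map_inv, Pt.map_map, evs_comp_tinl]

lemma Ad0_mul (g h : Pt k A k) (x : L) : E.Ad0 (g * h) x = E.Ad0 g (E.Ad0 h x) := by
  apply E.P_inj
  rw [P_Ad0, P_Ad0, P_Ad0, Pt.map_mul]
  group

lemma Ad0_one (x : L) : E.Ad0 1 x = x := by
  apply E.P_inj
  rw [P_Ad0, Pt.map_one]
  group

lemma Ad0_add (g : Pt k A k) (x y : L) : E.Ad0 g (x + y) = E.Ad0 g x + E.Ad0 g y := by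
  apply E.P_inj
  rw [P_Ad0, E.P_add, E.P_add, P_Ad0, P_Ad0]
  group

lemma Ad0_smul (g : Pt k A k) (r : k) (x : L) : E.Ad0 g (r • x) = r • E.Ad0 g x := by
  apply E.P_inj
  rw [P_Ad0, E.P_smul, E.P_smul, P_Ad0, Pt.map_mul, Pt.map_mul, Pt.map_inv, Pt.map_map]
  have : (dscale k r).comp (tinl k k) = tinl k k := dscale_comp_tinl r
  rw [this]

lemma Ad0_lie (g : Pt k A k) (x y : L) : E.Ad0 g ⁅x, y⁆ = ⁅E.Ad0 g x, E.Ad0 g y⁆ := by
  apply E.Q12_injective
  rw [Q_Ad0, E.Q_lie (e1 k) (e2 k) e1_sq e2_sq e12_sq, E.Q_lie (e1 k) (e2 k) e1_sq e2_sq e12_sq,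
    Q_Ad0, Q_Ad0]
  group

/-- The adjoint action of a point is an automorphism of the Lie algebra. -/
noncomputable def Ad (g : Pt k A k) : L ≃ₗ⁅k⁆ L where
  toFun := E.Ad0 g
  map_add' := E.Ad0_add g
  map_smul' := E.Ad0_smul g
  map_lie' := E.Ad0_lie g _ _
  invFun := E.Ad0 g⁻¹
  left_inv x := by
    change E.Ad0 g⁻¹ (E.Ad0 g x) = x
    rw [← Ad0_mul, inv_mul_cancel, Ad0_one]
  right_inv x := by
    change E.Ad0 g (E.Ad0 g⁻¹ x) = x
    rw [← Ad0_mul, mul_inv_cancel, Ad0_one]

lemma P_Ad (g : Pt k A k) (x : L) :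
    E.P (E.Ad g x) = Pt.map (tinl k k) g * E.P x * (Pt.map (tinl k k) g)⁻¹ := E.P_Ad0 g x

lemma Q_Ad (g : Pt k A k) (s : C) (hs : s * s = 0) (x : L) :
    E.Q s hs (E.Ad g x) = Pt.map (Algebra.ofId k C) g * E.Q s hs x * (Pt.map (Algebra.ofId k C) g)⁻¹ :=
  E.Q_Ad0 g s hs x

lemma Ad_mul (g h : Pt k A k) (x : L) : E.Ad (g * h) x = E.Ad g (E.Ad h x) := E.Ad0_mul g h x

lemma Ad_one (x : L) : E.Ad 1 x = x := E.Ad0_one x

/-- Invariance of the characteristic polynomial. -/
theorem charpoly_ad_Ad [FiniteDimensional k L] (g : Pt k A k) (x : L) :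
    (LieAlgebra.ad k L (E.Ad g x)).charpoly = (LieAlgebra.ad k L x).charpoly := by
  rw [← LieAlgebra.conj_ad_apply, LinearEquiv.charpoly_conj]

end Ad

end PMod

end K218.LieP
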