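import Groth.Agent.SGA3t2b.K218.Ad.CartanAbs
import Groth.Agent.SGA3t2b.K218.Ad.OfModel
import Groth.Agent.LieWt.K929.LieRoot

/-!
# The Lie algebra of the torus of a splitting, in a Lie algebra model
-/

set_option autoImplicit false
universe u v

open CategoryTheory MonoidalCategory CartesianMonoidalCategory MonObj GrpObj AlgebraicGeometry Limits

namespace K218.LieP

open Groth.Agent.Sga3B Cell PinMod DSPts K929.LieDict K929.LieCell K929.LieSplit

variable {k : Type u} [Field k] {G : Over (Spec (CommRingCat.of k))} [GrpObj G]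

/-- points of the Lie algebra coming from a subgroup -/
lemma exists_map_iff {T : Over (Spec (CommRingCat.of k))} [GrpObj T] (i : T ⟶ G) [IsMonHom i] [Mono i]
    (y : LieS.LieR G k) :
    (∃ w : LieS.LieR T k, y = LieS.map k (str k k) i w) ↔
      ∃ v : LieS.dpt k (str k k) ⟶ T, y.1 = v ≫ i := by
  constructor
  · rintro ⟨w, rfl⟩
    exact ⟨w.1, rfl⟩
  · rintro ⟨v, hv⟩
    have h : LieS.zeroSec k (str k k) ≫ v = 1 := by
      rw [← cancel_mono i, Category.assoc, ← hv, (LieS.mem_Lie_iff G k (str k k) y.1).1 y.2,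
        MonObj.one_comp]
    refine ⟨⟨v, (LieS.mem_Lie_iff T k (str k k) v).2 h⟩, Subtype.ext hv⟩

variable (c : Chart G (𝟙 (Spec (CommRingCat.of k)))) (D : Red.SplitRed G)
  {L : Type v} [LieRing L] [LieAlgebra k L] (m : LieS.Model G k (str k k) L)

include c in
lemma exists_tors_iff (x : L) : (∃ h, (ofModel c m).tors (c.datum D) h = x) ↔
    ∃ v : LieS.dpt k (str k k) ⟶ D.T, (m.e (Multiplicative.ofAdd x)).1 = v ≫ D.i := by
  have hi : ∀ t : TPt D.M (DualNumber k), c.pts (DualNumber k) ((c.datum D).i _ t) =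
      dsEquiv (tB (𝟙 (Spec (CommRingCat.of k))) (DualNumber k)) D.M (chΓ (𝟙 _) t) ≫
        Chart.splitInv D ≫ D.i := fun t => by
    rw [c.pts_i]
  have hx : c.pts (DualNumber k) ((ofModel c m).P x) =
      (castD (str_eq k k)).hom ≫ (m.e (Multiplicative.ofAdd x)).1 := pts_inf c (str_eq k k) _
  constructor
  · rintro ⟨h, hh⟩
    have h1 := (ofModel c m).P_tors (c.datum D) h
    rw [hh] at h1
    rw [h1] at hx
    refine ⟨(castD (str_eq k k)).inv ≫
      dsEquiv (tB (𝟙 (Spec (CommRingCat.of k))) (DualNumber k)) D.M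
        (chΓ (𝟙 _) (tpt (DualNumber.eps : DualNumber k) (LieS.eps_sq k) h)) ≫ Chart.splitInv D, ?_⟩
    rw [← cancel_epi (castD (str_eq k k)).hom, ← hx, Category.assoc, Category.assoc,
      Iso.hom_inv_id_assoc]
    exact hi _
  · rintro ⟨v, hv⟩
    obtain ⟨t, ht⟩ := exists_chΓ (𝟙 _) ((castD (str_eq k k)).hom ≫ v ≫ Chart.splitHom D)
    have h1 : (ofModel c m).P x = (c.datum D).i _ t := by
      apply (c.pts (DualNumber k)).injective
      rw [hx, hi, ← ht, hv, Category.assoc, Category.assoc, Chart.splitHom_inv_assoc]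
    have h2 : TInf (c.datum D).M k t := by
      have h3 := (ofModel c m).P_mem x
      rw [h1, mem_infP] at h3
      have h4 := (c.datum D).i_nat (tfst k k) t
      exact (c.datum D).i_inj k ((h4.symm.trans h3).trans (map_one ((c.datum D).i k)).symm)
    obtain ⟨h, rfl⟩ := exists_tpt h2
    refine ⟨h, ?_⟩
    apply (ofModel c m).P_inj
    rw [h1]
    exact (ofModel c m).P_tors (c.datum D) h

/-- The image of the Lie algebra of the torus. -/
theorem coe_torsSub {T : Over (Spec (CommRingCat.of k))} [GrpObj T] (i : T ⟶ G) [IsMonHom i] [Mono i]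
    (τ : Grp.mk T ≅ Grp.mk D.T) (hτ : i = τ.hom.hom.hom ≫ D.i) :
    (((ofModel c m).torsSub (c.datum D) : LieSubalgebra k L) : Set L) =
      {x | ∃ w : ↥(LieS.LieR T k), m.e (Multiplicative.ofAdd x) = LieS.map k (str k k) i w} := by
  ext x
  rw [Set.mem_ofPred_eq, exists_map_iff i]
  refine Iff.trans (exists_tors_iff c D m x) ?_
  have e1 : τ.inv.hom.hom ≫ τ.hom.hom.hom = 𝟙 _ := congrArg (fun f => f.hom.hom) τ.inv_hom_id
  constructor
  · rintro ⟨v, hv⟩
    refine ⟨v ≫ τ.inv.hom.hom, ?_⟩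
    rw [hv, hτ, Category.assoc, reassoc_of% e1]
  · rintro ⟨v, hv⟩
    exact ⟨v ≫ τ.hom.hom.hom, by rw [hv, hτ, Category.assoc]⟩

end K218.LieP
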